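import Mathlib

/-!
Counting the fixed points of an automorphism of prime order on sections.
-/

set_option autoImplicit false

namespace CfsgLib.AlperinBound

universe u v

/-- The number of fixed points. -/
noncomputable def fixN {H : Type u} [Group H] (α : MulAut H) : ℕ := Nat.card {h : H // α h = h}

variable {H : Type u} [Group H]

theorem pow_intertwine {Q : Type v} [Group Q] (π : H →* Q) (α : MulAut H) (β : MulAut Q)
    (hc : ∀ h, π (α h) = β (π h)) (k : ℕ) (h : H) : π ((α ^ k) h) = (β ^ k) (π h) := by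
  induction k generalizing h with
  | zero => simp
  | succ k ih => rw [pow_succ, pow_succ, MulAut.mul_apply, MulAut.mul_apply, ih, hc]

theorem pow_eq_one_of_surjective {Q : Type v} [Group Q] {π : H →* Q} (hπ : Function.Surjective π) {α : MulAut H}
    {β : MulAut Q} (hc : ∀ h, π (α h) = β (π h)) {k : ℕ} (hα : α ^ k = 1) : β ^ k = 1 := by
  ext q
  obtain ⟨h, rfl⟩ := hπ q
  rw [← pow_intertwine π α β hc, hα]
  simp

variable [Finite H]

/-- Fixed points do not grow in quotients. -/
theorem card_fixed_image {Q : Type v} [Group Q] {π : H →* Q} (hπ : Function.Surjective π) {α : MulAut H}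
    {β : MulAut Q} (hc : ∀ h, π (α h) = β (π h)) : fixN β ≤ fixN α := by
  classical
  let X := {h : H // β (π h) = π h}
  haveI : Nonempty X := ⟨⟨1, by simp⟩⟩
  let d : X → H := fun x => x.1⁻¹ * α x.1
  let r : H → X := Function.invFun d
  have hr : ∀ x : X, (r (d x)).1⁻¹ * α (r (d x)).1 = x.1⁻¹ * α x.1 := fun x =>
    Function.invFun_eq (f := d) ⟨x, rfl⟩
  have hker : ∀ x : X, d x ∈ π.ker := fun x => by
    rw [MonoidHom.mem_ker]
    simp only [d, map_mul, map_inv, hc, x.2, inv_mul_cancel]
  have hfix : ∀ x : X, α (x.1 * (r (d x)).1⁻¹) = x.1 * (r (d x)).1⁻¹ := fun x => by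
    have h2 : α x.1 = x.1 * ((r (d x)).1⁻¹ * α (r (d x)).1) := by rw [hr x, mul_inv_cancel_left]
    rw [map_mul, map_inv, h2]
    group
  let f : X → {h : H // α h = h} × π.ker := fun x => (⟨_, hfix x⟩, ⟨d x, hker x⟩)
  have hf : Function.Injective f := fun x y e => by
    obtain ⟨e1, e2⟩ := Prod.mk.injEq _ _ _ _ ▸ e
    have e1' : x.1 * (r (d x)).1⁻¹ = y.1 * (r (d y)).1⁻¹ := congrArg Subtype.val e1
    rw [show d x = d y from congrArg Subtype.val e2] at e1'
    exact Subtype.ext (mul_right_cancel e1')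
  let g : {q : Q // β q = q} × π.ker → X := fun z => ⟨Function.surjInv hπ z.1.1 * z.2.1, by
    rw [map_mul, MonoidHom.mem_ker.mp z.2.2, mul_one, Function.surjInv_eq hπ]; exact z.1.2⟩
  have hg : Function.Injective g := fun z w e => by
    have e' : Function.surjInv hπ z.1.1 * z.2.1 = Function.surjInv hπ w.1.1 * w.2.1 := congrArg Subtype.val e
    have e1 : z.1 = w.1 := by
      have := congrArg π e'
      rw [map_mul, map_mul, MonoidHom.mem_ker.mp z.2.2, MonoidHom.mem_ker.mp w.2.2, mul_one, mul_one,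
        Function.surjInv_eq hπ, Function.surjInv_eq hπ] at this
      exact Subtype.ext this
    rw [e1] at e'
    exact Prod.ext e1 (Subtype.ext (mul_left_cancel e'))
  haveI : Finite Q := Finite.of_surjective π hπ
  have h := (Nat.card_le_card_of_injective g hg).trans (Nat.card_le_card_of_injective f hf)
  rw [Nat.card_prod, Nat.card_prod] at h
  exact Nat.le_of_mul_le_mul_right h Nat.card_pos

theorem map_eq_of_le {α : MulAut H} {N : Subgroup H} (h : ∀ x ∈ N, α x ∈ N) : N.map α.toMonoidHom = N :=
  Subgroup.eq_of_le_of_card_ge (Subgroup.map_le_iff_le_comap.mpr h)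
    (Subgroup.card_map_of_injective α.injective).ge

/-- The restriction to an invariant subgroup. -/
noncomputable def restr (α : MulAut H) (N : Subgroup H) (h : ∀ x ∈ N, α x ∈ N) : MulAut N :=
  MulEquiv.ofBijective ((α.toMonoidHom.comp N.subtype).codRestrict N fun x => h x x.2)
    (Finite.injective_iff_bijective.mp fun x y e => Subtype.ext (α.injective (congrArg Subtype.val e :)))

theorem coe_restr (α : MulAut H) {N : Subgroup H} (h : ∀ x ∈ N, α x ∈ N) (x : N) :
    (restr α N h x : H) = α x := rfl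

theorem restr_pow {α : MulAut H} {N : Subgroup H} (h : ∀ x ∈ N, α x ∈ N) {k : ℕ} (hα : α ^ k = 1) :
    restr α N h ^ k = 1 := by
  ext x
  have e := pow_intertwine N.subtype (restr α N h) α (fun y => coe_restr α h y) k x
  rw [hα] at e
  simpa using e

theorem fixN_restr_le (α : MulAut H) {N : Subgroup H} (h : ∀ x ∈ N, α x ∈ N) :
    fixN (restr α N h) ≤ fixN α :=
  Nat.card_le_card_of_injective
    (fun x : {x : N // restr α N h x = x} => (⟨(x.1 : H), congrArg Subtype.val x.2⟩ : {x : H // α x = x}))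
    fun _ _ e => Subtype.ext (Subtype.ext (congrArg Subtype.val e :))

/-- The induced automorphism of a quotient. -/
noncomputable def quo (α : MulAut H) (N : Subgroup H) [N.Normal] (h : ∀ x ∈ N, α x ∈ N) : MulAut (H ⧸ N) :=
  QuotientGroup.congr N N α (map_eq_of_le h)

theorem quo_mk (α : MulAut H) {N : Subgroup H} [N.Normal] (h : ∀ x ∈ N, α x ∈ N) (x : H) :
    QuotientGroup.mk' N (α x) = quo α N h (QuotientGroup.mk' N x) := rfl

theorem quo_pow {α : MulAut H} {N : Subgroup H} [N.Normal] (h : ∀ x ∈ N, α x ∈ N) {k : ℕ} (hα : α ^ k = 1) :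
    quo α N h ^ k = 1 :=
  pow_eq_one_of_surjective (QuotientGroup.mk'_surjective N) (quo_mk α h) hα

theorem fixN_quo_le (α : MulAut H) {N : Subgroup H} [N.Normal] (h : ∀ x ∈ N, α x ∈ N) :
    fixN (quo α N h) ≤ fixN α :=
  card_fixed_image (QuotientGroup.mk'_surjective N) (quo_mk α h)

theorem map_mem_char (α : MulAut H) (N : Subgroup H) [N.Characteristic] : ∀ x ∈ N, α x ∈ N := fun x hx => by
  rw [← Subgroup.characteristic_iff_map_eq.mp ‹N.Characteristic› α]
  exact Subgroup.mem_map_of_mem α.toMonoidHom hx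

theorem fixN_pos (α : MulAut H) : 0 < fixN α := by
  haveI : Nonempty {h : H // α h = h} := ⟨⟨1, map_one α⟩⟩
  exact Nat.card_pos

/-- The kernel of an endomorphism. -/
def kerE {A : Type u} [AddCommGroup A] (f : AddMonoid.End A) : AddSubgroup A := AddMonoidHom.ker (f : A →+ A)

theorem mem_kerE {A : Type u} [AddCommGroup A] {f : AddMonoid.End A} {x : A} : x ∈ kerE f ↔ f x = 0 := Iff.rfl

theorem card_kerE_pow {A : Type u} [AddCommGroup A] [Finite A] (f : AddMonoid.End A) :
    ∀ k : ℕ, Nat.card (kerE (f ^ k)) ≤ Nat.card (kerE f) ^ k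
  | 0 => by
    rw [pow_zero (Nat.card _), Finite.card_le_one_iff_subsingleton]
    refine ⟨fun a b => Subtype.ext ?_⟩
    have ha : ((f ^ 0 : AddMonoid.End A)) (a : A) = 0 := a.2
    have hb : ((f ^ 0 : AddMonoid.End A)) (b : A) = 0 := b.2
    exact ((DFunLike.congr_fun (pow_zero f) (a : A)).symm.trans ha).trans
      ((DFunLike.congr_fun (pow_zero f) (b : A)).symm.trans hb).symm
  | k + 1 => by
    let g : kerE (f ^ (k + 1)) →+ kerE (f ^ k) :=
      (AddMonoidHom.comp (f : A →+ A) (AddSubgroup.subtype _)).codRestrict _ fun x => by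
        have hx : ((f ^ (k + 1) : AddMonoid.End A)) (x : A) = 0 := x.2
        exact mem_kerE.mpr ((DFunLike.congr_fun (pow_succ f k) (x : A)).symm.trans hx)
    rw [AddSubgroup.card_eq_card_quotient_mul_card_addSubgroup g.ker, pow_succ (Nat.card (kerE f))]
    refine Nat.mul_le_mul (le_trans ?_ (card_kerE_pow f k)) ?_
    · rw [Nat.card_congr (QuotientAddGroup.quotientKerEquivRange g).toEquiv]
      exact Nat.card_le_card_of_injective Subtype.val Subtype.val_injective
    · exact Nat.card_le_card_of_injective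
        (fun x : g.ker => (⟨(x.1 : A), congrArg Subtype.val x.2⟩ : kerE f))
        fun _ _ e => Subtype.ext (Subtype.ext (congrArg Subtype.val e :))

/-- An abelian group of bounded exponent with few fixed points is small. -/
theorem card_abelian_bound {A : Type u} [CommGroup A] [Finite A] {p : ℕ} (hp : p.Prime) {M e : ℕ}
    (hexp : ∀ a : A, a ^ p ^ M = 1) (β : MulAut A) (hβ : β ^ p = 1) (hfix : fixN β ≤ p ^ e) :
    Nat.card A ≤ p ^ (e * p * M) := by
  let T : AddMonoid.End (Additive A) := MonoidHom.toAdditive β.toMonoidHom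
  have hTk : ∀ k : ℕ, ∀ a : Additive A, (T ^ k) a = Additive.ofMul ((β ^ k) a.toMul) := fun k => by
    induction k with
    | zero => intro a; rfl
    | succ k ih => intro a; rw [pow_succ, pow_succ]; exact (ih (T a)).trans rfl
  have hT : T ^ p = 1 := by
    refine AddMonoidHom.ext fun a => ?_
    exact (hTk p a).trans (by rw [hβ]; rfl)
  obtain ⟨r, hr⟩ := Commute.exists_add_pow_prime_eq hp (Commute.one_left (T - 1))
  rw [add_sub_cancel, hT, one_pow, mul_one] at hr
  have hfp : (T - 1) ^ p = (p : AddMonoid.End (Additive A)) * (-((T - 1) * r)) := by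
    have h2 : (T - 1) ^ p + (p : AddMonoid.End (Additive A)) * (T - 1) * r = 0 := by
      refine add_left_cancel (a := (1 : AddMonoid.End (Additive A))) ?_
      rw [add_zero, ← add_assoc, ← hr]
    have h4 : (T - 1) ^ p = -((p : AddMonoid.End (Additive A)) * (T - 1) * r) := eq_neg_of_add_eq_zero_left h2
    rw [h4, mul_assoc]
    exact neg_mul_eq_mul_neg (p : AddMonoid.End (Additive A)) _
  have hnil : (T - 1) ^ (p * M) = 0 := by
    rw [pow_mul, hfp, (Nat.cast_commute p _).mul_pow, ← Nat.cast_pow]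
    refine AddMonoidHom.ext fun a => ?_
    refine Eq.trans (AddMonoid.End.natCast_apply (p ^ M) _) ?_
    exact hexp _
  have h1 : Nat.card A ≤ Nat.card (kerE ((T - 1) ^ (p * M))) := by
    rw [hnil]
    refine Nat.card_le_card_of_injective (fun a => (⟨Additive.ofMul a, rfl⟩ :
      kerE (0 : AddMonoid.End (Additive A)))) fun _ _ e => congrArg Subtype.val e
  refine (h1.trans (card_kerE_pow (T - 1) (p * M))).trans ?_
  rw [mul_assoc e, pow_mul p e (p * M)]
  refine Nat.pow_le_pow_left (le_trans (Nat.card_le_card_of_injective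
    (fun x : kerE (T - 1) => (⟨x.1.toMul, ?_⟩ : {a : A // β a = a})) ?_) hfix) _
  · have hx : (T - 1) x.1 = 0 := x.2
    exact Additive.ofMul.injective (sub_eq_zero.mp hx)
  · exact fun _ _ e => Subtype.ext (Additive.toMul.injective (congrArg Subtype.val e :))

/-- In a normal invariant subgroup of order prime to `p`, a fixed coset contains a fixed element. -/
theorem exists_fixed_in_coset {p : ℕ} [Fact p.Prime] {α : MulAut H} (hα : α ^ p = 1) {K : Subgroup H}
    (hK : ∀ x ∈ K, α x ∈ K) (hp : ¬ p ∣ Nat.card K) {x : H} (hx : x⁻¹ * α x ∈ K) :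
    ∃ c, α c = c ∧ x⁻¹ * c ∈ K := by
  classical
  let S := {y : H // x⁻¹ * y ∈ K}
  haveI := Fintype.ofFinite S
  let f : S → S := fun y => ⟨α y.1, by
    have := mul_mem hx (hK _ y.2)
    rwa [map_mul, map_inv, mul_assoc, mul_inv_cancel_left] at this⟩
  have hf : Function.Injective f := fun a b e => Subtype.ext (α.injective (congrArg Subtype.val e :))
  let σ : Equiv.Perm S := Equiv.ofBijective f (Finite.injective_iff_bijective.mp hf)
  have hσk : ∀ k : ℕ, ∀ y : S, ((σ ^ k) y).1 = (α ^ k) y.1 := fun k => by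
    induction k with
    | zero => intro y; rfl
    | succ k ih => intro y; rw [pow_succ, pow_succ, Equiv.Perm.mul_apply, ih]; rfl
  have hσ : σ ^ p ^ 1 = 1 := by
    ext y
    rw [pow_one, hσk, hα]
    rfl
  have hcard : Fintype.card S = Nat.card K := by
    rw [← Nat.card_eq_fintype_card]
    exact Nat.card_congr
      ⟨fun y => ⟨_, y.2⟩, fun k => ⟨x * k.1, by rw [inv_mul_cancel_left]; exact k.2⟩,
        fun y => Subtype.ext (mul_inv_cancel_left x y.1), fun k => Subtype.ext (inv_mul_cancel_left x k.1)⟩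
  obtain ⟨y, hy⟩ := Equiv.Perm.exists_fixed_point_of_prime (hcard ▸ hp) hσ
  exact ⟨y.1, congrArg Subtype.val hy, y.2⟩

/-- An automorphism of order dividing `p` normalises some Sylow `p`-subgroup. -/
theorem exists_invariant_sylow {p : ℕ} [Fact p.Prime] {α : MulAut H} (hα : α ^ p = 1) :
    ∃ P : Sylow p H, ∀ x ∈ (P : Subgroup H), α x ∈ (P : Subgroup H) := by
  classical
  haveI := Fintype.ofFinite (Sylow p H)
  obtain ⟨P, hP⟩ := Equiv.Perm.exists_fixed_point_of_prime (p := p) (n := 1)
    (σ := MulAction.toPermHom (MulAut H) (Sylow p H) α)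
    (Nat.card_eq_fintype_card (α := Sylow p H) ▸ not_dvd_card_sylow p H)
    (by rw [pow_one, ← map_pow, hα, map_one])
  refine ⟨P, fun x hx => ?_⟩
  have h := congrArg (fun Q : Sylow p H => (Q : Subgroup H)) hP
  simp only [MulAction.toPermHom_apply, MulAction.toPerm_apply, Sylow.pointwise_smul_def] at h
  exact h ▸ Subgroup.smul_mem_pointwise_smul x α _ hx

end CfsgLib.AlperinBound
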