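import Cfsg.Agent.Lib.LieFpf.GroupLie

/-!
Lie rings with an automorphism of prime order whose fixed elements have bounded exponent, and the
exponent of one lower central factor of a group with few fixed points.
-/

set_option autoImplicit false

namespace CfsgLib.AlperinBound

open CfsgLib.LieFpf
open scoped TensorProduct

universe u

variable {L : Type u} [LieRing L] {p : ℕ}

noncomputable local instance (priority := high) selfBracketE : Bracket (R p ⊗[ℤ] L) (R p ⊗[ℤ] L) :=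
  (lieRingSelfModule (L := R p ⊗[ℤ] L)).toBracket

/-- The eigenspaces multiplied by `p ^ e`. -/
noncomputable def scaled (p e : ℕ) (Φ : L →+ L) (s : ZMod p) : AddSubgroup (E p L) :=
  (eig (p := p) Φ s).map (nsmulAddMonoidHom (p ^ e))

theorem scaled_graded [NeZero p] (Φ : L →+ L) (hΦ : ∀ x y, Φ ⁅x, y⁆ = ⁅Φ x, Φ y⁆) {e : ℕ}
    (hfix : ∀ x, Φ x = x → p ^ e • x = 0) : Graded (scaled p e Φ) := by
  refine ⟨?_, le_bot_iff.mp ?_⟩
  · rintro a b _ ⟨x, hx, rfl⟩ _ ⟨y, hy, rfl⟩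
    change x ∈ eig Φ a at hx
    change y ∈ eig Φ b at hy
    have hxy : ⁅x, y⁆ ∈ eig Φ (a + b) := by
      rw [mem_eig] at hx hy ⊢
      rw [ext'_lie Φ hΦ, hx, hy, lie_smul, ← lie_skew (δ a • x) y, lie_smul, ← smul_neg, lie_skew x y,
        smul_smul, δ_mul, add_comm b a]
    refine ⟨p ^ e • ⁅x, y⁆, AddSubgroup.nsmul_mem _ hxy _, ?_⟩
    simp only [nsmulAddMonoidHom_apply, nsmul_lie, lie_nsmul]
  · rintro _ ⟨f, hf, rfl⟩
    change f ∈ eig Φ 0 at hf
    rw [mem_eig, δ_zero, one_smul] at hf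
    rw [AddSubgroup.mem_bot, nsmulAddMonoidHom_apply, ← sum_coord f, Finset.smul_sum]
    refine Finset.sum_eq_zero fun k _ => ?_
    rw [← TensorProduct.tmul_smul, hfix (coord k f) (by rw [← coord_ext', hf]), TensorProduct.tmul_zero]

variable [Fact p.Prime] (Φ : L →+ L)

theorem sum_comp'_eq (hper : ∀ x, Φ^[p] x = x) (x : L) :
    ∃ s : L, Φ s = s ∧
      ∑ i : ZMod p, comp' Φ i x = ee p ⊗ₜ[ℤ] x + (∑ i : ZMod p, δ i) ⊗ₜ[ℤ] s := by
  refine ⟨∑ j : ZMod p, Φ^[j.val] x, ?_, ?_⟩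
  · rw [map_sum]
    refine Fintype.sum_equiv (Equiv.addRight 1) _ _ fun j => ?_
    rw [← Function.iterate_succ_apply' Φ, ← (show Function.IsPeriodicPt Φ p x from hper x).iterate_mod_apply,
      Equiv.coe_addRight]
    simp only [ZMod.val_add, ZMod.val_one, Nat.succ_eq_add_one]
  simp only [comp']
  rw [Finset.sum_comm]
  simp only [← TensorProduct.sum_tmul]
  rw [← Finset.add_sum_erase _ _ (Finset.mem_univ (0 : ZMod p))]
  have h1 : ∀ j ∈ Finset.univ.erase (0 : ZMod p), (∑ i : ZMod p, δ (-(i * j))) ⊗ₜ[ℤ] Φ^[j.val] x =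
      (∑ i : ZMod p, δ i) ⊗ₜ[ℤ] Φ^[j.val] x := fun j hj => by
    congr 1
    exact Fintype.sum_equiv ((Equiv.mulRight₀ j (Finset.ne_of_mem_erase hj)).trans (Equiv.neg _)) _ _ fun _ => rfl
  rw [Finset.sum_congr rfl h1, ← TensorProduct.tmul_sum,
    Finset.sum_erase_eq_sub (Finset.mem_univ _)]
  simp only [mul_zero, neg_zero, ZMod.val_zero, Function.iterate_zero_apply, Finset.sum_const, Finset.card_univ,
    ZMod.card, TensorProduct.tmul_sub]
  rw [ee, TensorProduct.sub_tmul, nsmul_eq_mul, δ_zero, mul_one]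
  abel

theorem lcs_scaled (hper : ∀ x, Φ^[p] x = x) {e : ℕ} (hfix : ∀ x, Φ x = x → p ^ e • x = 0) (k : ℕ) :
    ∀ x ∈ lcs L k, p ^ (e + (e + 1) * k) • (ee p ⊗ₜ[ℤ] x) ∈ ⨆ s : ZMod p, cs (scaled p e Φ) k s := by
  have hmem : ∀ x : L, p ^ e • (ee p ⊗ₜ[ℤ] x) ∈ ⨆ s : ZMod p, scaled p e Φ s := fun x => by
    obtain ⟨s, hs, hsum⟩ := sum_comp'_eq Φ hper x
    have h1 : p ^ e • (ee p ⊗ₜ[ℤ] x) = p ^ e • ∑ i : ZMod p, comp' Φ i x := by
      rw [hsum, smul_add, ← TensorProduct.tmul_smul (p ^ e) (∑ i : ZMod p, δ i) s, hfix s hs,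
        TensorProduct.tmul_zero, add_zero]
    rw [h1, Finset.smul_sum]
    exact sum_mem fun i _ => AddSubgroup.mem_iSup_of_mem i ⟨_, comp'_mem Φ hper i x, rfl⟩
  induction k with
  | zero => intro x _; simpa [cs] using hmem x
  | succ k ih =>
    intro z hz
    induction hz using AddSubgroup.closure_induction with
    | mem w hw =>
      obtain ⟨x, hx, y, rfl⟩ := hw
      have h : p ^ (e + (e + 1) * (k + 1)) • (ee p ⊗ₜ[ℤ] ⁅x, y⁆) =
          ⁅p ^ (e + (e + 1) * k) • (ee p ⊗ₜ[ℤ] x), p ^ e • (ee p ⊗ₜ[ℤ] y)⁆ := by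
        rw [nsmul_lie, lie_nsmul, tmul_lie, ee_mul, ← nsmul_eq_mul,
          ← TensorProduct.smul_tmul', smul_smul, smul_smul]
        congr 1
        rw [← pow_add, ← pow_succ]
        congr 1
        ring
      rw [h]
      have h2 := fun u v => iSup_lie (u := u) (v := v) (T := fun s => cs (scaled p e Φ) (k + 1) s)
        (F := cs (scaled p e Φ) k) (H := scaled p e Φ) (by intro a b x hx y hy; rw [cs_succ]; exact mem_br hx hy)
      exact h2 _ _ (ih x hx) (hmem y)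
    | zero => simp
    | add u v _ _ hu hv => rw [TensorProduct.tmul_add, smul_add]; exact add_mem hu hv
    | neg u _ hu => rw [TensorProduct.tmul_neg, smul_neg]; exact neg_mem hu

/-- The class bound of Higman, Kreknin and Kostrikin. -/
def hcls (p : ℕ) : ℕ := ∑ i ∈ Finset.range (2 ^ (p - 1) - 1), (p - 1) ^ i

/-- The exponent bound for that term of the lower central series. -/
def hexp (p e : ℕ) : ℕ := e + (e + 1) * hcls p

/-- **Kreknin's theorem for fixed elements of bounded exponent.** -/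
theorem lcs_exponent (hΦ : ∀ x y, Φ ⁅x, y⁆ = ⁅Φ x, Φ y⁆) (hper : ∀ x, Φ^[p] x = x) {e : ℕ}
    (hfix : ∀ x, Φ x = x → p ^ e • x = 0) : ∀ x ∈ lcs L (hcls p), p ^ hexp p e • x = 0 := by
  intro x hx
  have hS : Graded (scaled p e Φ) := scaled_graded Φ hΦ hfix
  have h1 := lcs_scaled Φ hper hfix (hcls p) x hx
  rw [show cs (scaled p e Φ) (hcls p) = ⊥ from cs_eq_bot _ _ hS (solvable hS)] at h1
  simp only [Pi.bot_apply, iSup_bot, AddSubgroup.mem_bot] at h1
  have h2 := congrArg (coord (L := L) (1 : ZMod p)) h1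
  rw [map_nsmul, coord_tmul, ee_coeff, map_zero, neg_one_zsmul, smul_neg, neg_eq_zero] at h2
  exact h2

end CfsgLib.AlperinBound
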