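import Mathlib
import Cfsg.Agent.Lib.PSeries
import Cfsg.Agent.Lib.PLengthTwo
import Cfsg.Agent.Lib.DisconnectedSolvable
import Cfsg.Agent.Lib.Elementary

/-!
The `p`-length of a solvable group is bounded by the rank of its Sylow `p`-subgroup.
-/

set_option autoImplicit false

namespace CfsgLib.AlperinBound

open Cfsg CfsgLib.PSeries

universe u

theorem index_frattini_map_le {P : Type u} [Group P] [Finite P] {R : Type u} [Group R] (g : P →* R)
    (hg : Function.Surjective g) : (frattini R).index ≤ (frattini P).index := by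
  rw [← Subgroup.index_comap_of_surjective _ hg]
  exact Nat.le_of_dvd (Nat.pos_of_ne_zero Subgroup.index_ne_zero_of_finite)
    (Subgroup.index_dvd_of_le (frattini_le_comap_frattini_of_surjective hg))

theorem index_frattini_map_lt {P : Type u} [Group P] [Finite P] {R : Type u} [Group R] (g : P →* R)
    (hg : Function.Surjective g) (h : ¬ g.ker ≤ frattini P) : (frattini R).index < (frattini P).index := by
  rw [← Subgroup.index_comap_of_surjective _ hg]
  refine Subgroup.index_strictAnti (lt_of_le_of_ne (frattini_le_comap_frattini_of_surjective hg) fun e => h ?_)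
  rw [e]
  intro x hx
  rw [Subgroup.mem_comap, MonoidHom.mem_ker.mp hx]
  exact one_mem _

theorem pCore_quotient_eq_bot' {G : Type u} [Group G] [Finite G] {p : ℕ} [Fact p.Prime] :
    pCore p (G ⧸ pCore p G) = ⊥ := by
  set O := pCore p G
  have h : (pCore p (G ⧸ O)).comap (QuotientGroup.mk' O) ≤ O :=
    CfsgLib.le_pCore ((CfsgLib.isPGroup_pCore (G := G ⧸ O) p).comap_of_ker_isPGroup _ (by
      rw [QuotientGroup.ker_mk']; exact CfsgLib.isPGroup_pCore p))
  rw [eq_bot_iff]
  intro x hx
  obtain ⟨g, rfl⟩ := QuotientGroup.mk'_surjective O x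
  exact (QuotientGroup.eq_one_iff g).mpr (h hx)

theorem pCore_not_le_frattini_sylow {G : Type u} [Group G] [Finite G] [Group.IsSolvable G] [Nontrivial G] {p : ℕ}
    [hp : Fact p.Prime] (hO : pPrimeCore p G = ⊥) (P : Sylow p G) :
    ¬ (pCore p G).subgroupOf (P : Subgroup G) ≤ frattini P := by
  intro hle
  set Q := pCore p G with hQdef
  have hQP : Q ≤ (P : Subgroup G) := CfsgLib.pCore_le_sylow P
  have hQΦ : ¬ Q ≤ frattini G := by
    intro hQ
    have hO' := CfsgLib.PLengthTwo.pPrimeCore_quotient_frattini hO (CfsgLib.isPGroup_pCore (G := G) p) hQ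
    rcases subsingleton_or_nontrivial (G ⧸ Q) with hs | hn
    · have hQt : Q = ⊤ := QuotientGroup.subgroup_eq_top_of_subsingleton Q hs
      rcases eq_top_or_exists_le_coatom (⊥ : Subgroup G) with h | ⟨M, hM, -⟩
      · exact bot_ne_top h
      · exact hM.1 (top_le_iff.mp (hQt ▸ hQ.trans (frattini_le_coatom hM)))
    · haveI : Group.IsSolvable (G ⧸ Q) := solvable_of_surjective (QuotientGroup.mk'_surjective Q)
      refine DiscSol.fitting_ne_bot (G := G ⧸ Q) ?_
      rw [CfsgLib.fitting_eq_pCore hp.out hO']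
      exact pCore_quotient_eq_bot'
  obtain ⟨M, hM, hQM⟩ : ∃ M : Subgroup G, IsCoatom M ∧ ¬ Q ≤ M := by
    by_contra h
    push Not at h
    exact hQΦ (FrattiniLemmas.le_frattini_of_forall h)
  have htop : Q ⊔ M = ⊤ := hM.2 _ (lt_of_le_of_ne le_sup_right fun e => hQM (le_of_le_of_eq le_sup_left e.symm))
  have hP : M.subgroupOf (P : Subgroup G) ⊔ frattini P = ⊤ := by
    refine top_le_iff.mp fun x _ => ?_
    have hx : (x : G) ∈ Q ⊔ M := htop ▸ Subgroup.mem_top _
    rw [Subgroup.mem_sup_of_normal_left] at hx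
    obtain ⟨q, hq, m, hm, hqm⟩ := hx
    have hmP : m ∈ (P : Subgroup G) := by
      rw [show m = q⁻¹ * x by rw [← hqm, inv_mul_cancel_left]]
      exact mul_mem (inv_mem (hQP hq)) x.2
    rw [show x = ⟨q, hQP hq⟩ * ⟨m, hmP⟩ from Subtype.ext hqm.symm]
    exact mul_mem (Subgroup.mem_sup_right (hle (Subgroup.mem_subgroupOf.mpr hq)))
      (Subgroup.mem_sup_left (Subgroup.mem_subgroupOf.mpr hm))
  exact hQM (hQP.trans (Subgroup.subgroupOf_eq_top.mp (frattini_nongenerating hP)))

/-- **The `p`-length is at most the rank of a Sylow `p`-subgroup.** -/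
theorem pLength_le_rank (p : ℕ) [hp : Fact p.Prime] : ∀ (N : ℕ) (G : Type u) [Group G] [Finite G]
    [Group.IsSolvable G], Nat.card G ≤ N → ∀ (P : Sylow p G) (d : ℕ),
    (frattini P).index ≤ p ^ d → PLengthLE p d G := by
  intro N
  induction N with
  | zero =>
    intro G _ _ _ hN
    exact absurd hN (by have := Nat.card_pos (α := G); omega)
  | succ N ih =>
    intro G _ _ _ hN P d hd
    rcases subsingleton_or_nontrivial G with hs | hnt
    · exact pLengthLE_mono (Nat.zero_le d) (pLengthLE_zero_iff.mpr (Subsingleton.elim _ _))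
    have hlt : ∀ W : Subgroup G, W.Normal → W ≠ ⊥ → Nat.card (G ⧸ W) ≤ N := fun W _ hW => by
      refine Nat.le_of_lt_succ (lt_of_lt_of_le ?_ hN)
      rw [Subgroup.card_eq_card_quotient_mul_card_subgroup W]
      exact lt_mul_of_one_lt_right Nat.card_pos
        (Finite.one_lt_card_iff_nontrivial.mpr ((Subgroup.nontrivial_iff_ne_bot W).mpr hW))
    by_cases hO : pPrimeCore p G = ⊥
    · set Q := pCore p G with hQ
      have hQne : Q ≠ ⊥ := by
        rw [hQ, ← CfsgLib.fitting_eq_pCore hp.out hO]
        exact DiscSol.fitting_ne_bot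
      set π := QuotientGroup.mk' Q with hπ
      have hπs : Function.Surjective π := QuotientGroup.mk'_surjective Q
      haveI : Group.IsSolvable (G ⧸ Q) := solvable_of_surjective hπs
      set R := P.mapSurjective hπs with hR
      have hlt' : (frattini R).index < p ^ d := by
        refine lt_of_lt_of_le (index_frattini_map_lt (π.subgroupMap (P : Subgroup G))
          (π.subgroupMap_surjective _) fun h => pCore_not_le_frattini_sylow hO P fun x hx => h ?_) hd
        exact Subtype.ext ((QuotientGroup.eq_one_iff _).mpr (Subgroup.mem_subgroupOf.mp hx))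
      obtain ⟨j, hj⟩ := R.2.index (frattini R)
      have hjd : j < d := (Nat.pow_lt_pow_iff_right hp.out.one_lt).mp (hj ▸ hlt')
      obtain ⟨d', rfl⟩ : ∃ d', d = d' + 1 := ⟨d - 1, by omega⟩
      exact pLengthLE_of_pGroup_kernel π (by rw [hπ, QuotientGroup.ker_mk']; exact CfsgLib.isPGroup_pCore p)
        (ih (G ⧸ Q) (hlt Q inferInstance hQne) R d'
          (hj ▸ Nat.pow_le_pow_right hp.out.pos (Nat.le_of_lt_succ hjd)))
    · set O := pPrimeCore p G with hOdef
      set π := QuotientGroup.mk' O with hπ
      have hπs : Function.Surjective π := QuotientGroup.mk'_surjective O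
      haveI : Group.IsSolvable (G ⧸ O) := solvable_of_surjective hπs
      exact pLengthLE_of_pPrime_kernel π (by rw [hπ, QuotientGroup.ker_mk']; exact CfsgLib.card_pPrimeCore_coprime p)
        (ih (G ⧸ O) (hlt O inferInstance hO) (P.mapSurjective hπs) d
          ((index_frattini_map_le (π.subgroupMap (P : Subgroup G)) (π.subgroupMap_surjective _)).trans hd))

end CfsgLib.AlperinBound
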