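import Cfsg.Agent.Lib.AlperinBound.PPrime
import Cfsg.Agent.Lib.AlperinBound.PLength

/-!
Alperin's bound on the derived length of a solvable group with an automorphism of prime order with few
fixed points.
-/

set_option autoImplicit false

namespace CfsgLib.AlperinBound

open Cfsg CfsgLib.PSeries

universe u

theorem U_invariant {G : Type u} [Group G] [Finite G] {p : ℕ} [Fact p.Prime] (α : MulAut G) (i : ℕ) :
    ∀ x ∈ U p G i, α x ∈ U p G i :=
  fun _ hx => map_le (p := p) α.toMonoidHom α.surjective i (Subgroup.mem_map_of_mem _ hx)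

/-- The bound for one layer. -/
def dlLayer (p n : ℕ) : ℕ := max (dlP p n) (dlP' p (p ^ n))

theorem derived_layer {G : Type u} [Group G] [Finite G] [Group.IsSolvable G] {p : ℕ} [hp : Fact p.Prime]
    (α : MulAut G) (hα : α ^ p = 1) {n : ℕ} (hfix : fixN α ≤ p ^ n) (i a : ℕ)
    (h : derivedSeries G a ≤ U p G (i + 1)) : derivedSeries G (a + dlLayer p n) ≤ U p G i := by
  set π := QuotientGroup.mk' (U p G i) with hπ
  have hπs : Function.Surjective π := QuotientGroup.mk'_surjective _
  set β := quo α (U p G i) (U_invariant α i) with hβ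
  have hβp : β ^ p = 1 := quo_pow _ hα
  have hβf : fixN β ≤ p ^ n := (fixN_quo_le α _).trans hfix
  haveI : Group.IsSolvable (G ⧸ U p G i) := solvable_of_surjective hπs
  have step : ∀ X : Subgroup (G ⧸ U p G i), U p G (i + 1) ≤ X.comap π →
      derivedSeries X (dlLayer p n) = ⊥ → derivedSeries G (a + dlLayer p n) ≤ U p G i := by
    intro X hX hd
    have h1 : derivedSeries (G ⧸ U p G i) a ≤ X := by
      rw [← map_derivedSeries_eq hπs, Subgroup.map_le_iff_le_comap]
      exact h.trans hX
    have h2 := CfsgLib.PLengthBound.derivedSeries_add_le X h1 (dlLayer p n)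
    rw [hd, Subgroup.map_bot, ← map_derivedSeries_eq hπs, le_bot_iff, Subgroup.map_eq_bot_iff] at h2
    rwa [hπ, QuotientGroup.ker_mk'] at h2
  by_cases hi : Even i
  · set X := pPrimeCore p (G ⧸ U p G i) with hX
    have hinv : ∀ x ∈ X, β x ∈ X := fun x hx =>
      (CfsgLib.pPrimeCore_map_equiv p β).le (Subgroup.mem_map_of_mem β.toMonoidHom hx)
    refine step X (U_succ_even hi).le (le_bot_iff.mp ((derivedSeries_antitone X (le_max_right _ _)).trans
      (derived_pPrime (CfsgLib.not_dvd_card_pPrimeCore hp.out) (restr β X hinv) (restr_pow hinv hβp)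
        ((fixN_restr_le β hinv).trans hβf)).le))
  · set X := pCore p (G ⧸ U p G i) with hX
    have hinv : ∀ x ∈ X, β x ∈ X := fun x hx =>
      (CfsgLib.pCore_map_equiv p β).le (Subgroup.mem_map_of_mem β.toMonoidHom hx)
    refine step X (U_succ_odd hi).le (le_bot_iff.mp ((derivedSeries_antitone X (le_max_left _ _)).trans
      (derived_pGroup (CfsgLib.isPGroup_pCore p) (restr β X hinv) (restr_pow hinv hβp)
        ((fixN_restr_le β hinv).trans hβf)).le))

/-- **Alperin.** -/
theorem derived_bound {G : Type u} [Group G] [Finite G] [Group.IsSolvable G] {p : ℕ} [hp : Fact p.Prime]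
    (α : MulAut G) (hα : α ^ p = 1) {n : ℕ} (hfix : fixN α ≤ p ^ n) :
    derivedSeries G ((2 * (n * p) + 1) * dlLayer p n) = ⊥ := by
  obtain ⟨P, hP⟩ := exists_invariant_sylow (p := p) hα
  have hidx := index_frattini_le P.2 (restr α (P : Subgroup G) hP) (restr_pow hP hα)
    ((fixN_restr_le α hP).trans hfix)
  have hlen : PLengthLE p (n * p) G := pLength_le_rank p _ G le_rfl P _ hidx
  set T := 2 * (n * p) + 1 with hT
  have key : ∀ t, t ≤ T → derivedSeries G (t * dlLayer p n) ≤ U p G (T - t) := by
    intro t
    induction t with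
    | zero => intro _; rw [Nat.sub_zero]; exact le_top.trans (le_of_eq hlen.symm)
    | succ t ih =>
      intro ht
      rw [Nat.succ_mul]
      refine derived_layer α hα hfix (T - (t + 1)) _ ?_
      rw [show T - (t + 1) + 1 = T - t by omega]
      exact ih (by omega)
  have := key T le_rfl
  rw [Nat.sub_self, U_zero] at this
  exact le_bot_iff.mp this

end CfsgLib.AlperinBound
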