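import Cfsg.Agent.Lib.AlperinBound.Lie
import Cfsg.Agent.Lib.AlperinBound.Fixed
import Cfsg.Agent.Lib.Elementary
import Cfsg.Agent.Lib.PLengthBound
import Cfsg.Agent.S3781

/-!
The derived length of a `p`-group with an automorphism of order `p` with few fixed points.
-/

set_option autoImplicit false

namespace CfsgLib.AlperinBound

open CfsgLib.LieFpf

universe u

variable {G : Type u} [Group G] [Finite G] {p : ℕ}

local notation "γ" => Subgroup.lowerCentralSeries (⊤ : Subgroup G)

theorem one_le_hcls (hp : p.Prime) : 1 ≤ hcls p := by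
  have h : 0 ∈ Finset.range (2 ^ (p - 1) - 1) := by
    have := Nat.pow_le_pow_right (show 2 > 0 by omega) (show 1 ≤ p - 1 by have := hp.two_le; omega)
    rw [Finset.mem_range]
    omega
  exact le_trans (by simp) (Finset.single_le_sum (f := fun i => (p - 1) ^ i) (fun i _ => Nat.zero_le _) h)

theorem pow_fixed_eq_one {H : Type u} [Group H] [Finite H] [hp : Fact p.Prime] (hH : IsPGroup p H) (β : MulAut H)
    {e : ℕ} (hfix : fixN β ≤ p ^ e) {q : H} (hq : β q = q) : q ^ p ^ e = 1 := by
  obtain ⟨j, hj⟩ := IsPGroup.iff_orderOf.mp hH q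
  have h1 : orderOf q ≤ fixN β := by
    rw [← Nat.card_zpowers]
    refine Nat.card_le_card_of_injective
      (fun z : Subgroup.zpowers q => (⟨z.1, ?_⟩ : {h : H // β h = h})) fun _ _ e => Subtype.ext (congrArg Subtype.val e :)
    obtain ⟨i, hi⟩ := z.2
    rw [← hi, map_zpow, hq]
  exact orderOf_dvd_iff_pow_eq_one.mp
    (hj ▸ pow_dvd_pow p ((Nat.pow_le_pow_iff_right hp.out.one_lt).mp (hj ▸ h1.trans hfix)))

theorem subgroupOf_invariant (α : MulAut G) (n : ℕ) :
    ∀ x ∈ (γ (n + 1)).subgroupOf (γ n), restr α (γ n) (map_mem_char α (γ n)) x ∈ (γ (n + 1)).subgroupOf (γ n) :=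
  fun x hx => by
    rw [Subgroup.mem_subgroupOf, coe_restr]
    exact map_mem_char α (γ (n + 1)) _ (Subgroup.mem_subgroupOf.mp hx)

/-- The action on one factor. -/
noncomputable def autQ (α : MulAut G) (n : ℕ) : MulAut (Q G n) :=
  quo (restr α (γ n) (map_mem_char α (γ n))) _ (subgroupOf_invariant α n)

theorem fixN_autQ_le (α : MulAut G) (n : ℕ) : fixN (autQ α n) ≤ fixN α :=
  (fixN_quo_le _ _).trans (fixN_restr_le _ _)

theorem autQ_pow {α : MulAut G} {k : ℕ} (hα : α ^ k = 1) (n : ℕ) : autQ α n ^ k = 1 :=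
  quo_pow _ (restr_pow _ hα)

theorem autA_eq (α : MulAut G) (n : ℕ) (a : A G n) : autA α n a = Additive.ofMul (autQ α n a.toMul) := by
  obtain ⟨g, hg, rfl⟩ := mkA_surj a
  rw [autA, liftA_mkA hg, mkA, mkA, dif_pos hg, dif_pos (autA.aut_mem α hg)]
  rfl

theorem cls_pow (n : ℕ) {g : G} (hg : g ∈ γ n) : ∀ k : ℕ, cls n (g ^ k) = k • cls n g
  | 0 => by rw [pow_zero, cls_one, zero_smul]
  | k + 1 => by rw [pow_succ, cls_mul (pow_mem hg k) hg, cls_pow n hg k, succ_nsmul]

variable [hp : Fact p.Prime] (hG : IsPGroup p G) (α : MulAut G) (hα : α ^ p = 1) {e : ℕ}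
  (hfix : fixN α ≤ p ^ e)
include hG hα hfix

theorem pow_mem_succ {g : G} (hg : g ∈ γ (hcls p)) : g ^ p ^ hexp p e ∈ γ (hcls p + 1) := by
  have hper : ∀ a : LG G, (autL α)^[p] a = a := fun a => by
    induction a using LG.induction with
    | zero => exact iterate_map_zero (autL α) p
    | hcls n g hg => rw [(autL_iterate α p hg).1, hα]; rfl
    | add b c hb hc => rw [iterate_map_add, hb, hc]
  have hf : ∀ a : LG G, autL α a = a → p ^ e • a = 0 := fun a ha => by
    refine DFinsupp.ext fun n => ?_
    have h := congrArg (fun f : LG G => f n) ha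
    simp only [autL, DirectSum.map_apply] at h
    rw [autA_eq] at h
    have h2 := pow_fixed_eq_one ((hG.to_subgroup (γ n)).to_quotient _) (autQ α n)
      ((fixN_autQ_le α n).trans hfix) (q := (a n).toMul) (congrArg Additive.toMul h)
    rw [DFinsupp.smul_apply]
    exact Additive.toMul.injective ((toMul_nsmul _ _).trans h2)
  have h1 := lcs_exponent (p := p) (autL α) (autL_lie α) hper hf _ (cls_mem_lcs _ g hg)
  rw [← cls_pow _ hg, cls] at h1
  exact (mkA_eq_zero_iff (pow_mem hg _)).mp
    (DirectSum.of_injective (β := A G) (hcls p) (by rw [h1, map_zero]))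

/-- One factor of the lower central series is small. -/
theorem relIndex_bound : (γ (hcls p + 1)).relIndex (γ (hcls p)) ≤ p ^ (e * p * hexp p e) := by
  refine card_abelian_bound hp.out (A := Q G (hcls p)) ?_ (autQ α _) (autQ_pow hα _) ((fixN_autQ_le α _).trans hfix)
  intro a
  induction a using QuotientGroup.induction_on with
  | H g =>
    rw [← QuotientGroup.mk_pow, QuotientGroup.eq_one_iff, Subgroup.mem_subgroupOf, SubgroupClass.coe_pow]
    exact pow_mem_succ hG α hα hfix g.2

/-- The Frattini quotient is small. -/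
theorem index_frattini_le : (frattini G).index ≤ p ^ (e * p) := by
  rw [Subgroup.index_eq_card]
  letI : CommGroup (G ⧸ frattini G) :=
    { (inferInstance : Group (G ⧸ frattini G)) with
      mul_comm := (Subgroup.Normal.quotient_commutative_iff_commutator_le.mpr
        (CfsgLib.commutator_le_frattini_pGroup hG)).is_comm.comm }
  have hinv := map_mem_char α (frattini G)
  refine (card_abelian_bound hp.out (M := 1) (fun a => ?_) (quo α (frattini G) hinv) (quo_pow hinv hα)
    ((fixN_quo_le α hinv).trans hfix)).trans (by rw [mul_one])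
  obtain ⟨g, rfl⟩ := QuotientGroup.mk'_surjective _ a
  rw [pow_one, ← map_pow]
  exact (QuotientGroup.eq_one_iff _).mpr (CfsgLib.pow_mem_frattini_pGroup hG g)

end CfsgLib.AlperinBound

namespace CfsgLib.AlperinBound

open CfsgLib.LieFpf

universe u

/-- The bound for `p`-groups. -/
def dlP (p e : ℕ) : ℕ := (e * p * hexp p e + 1) + (hcls p + 1)

theorem derived_le_gamma {G : Type u} [Group G] : ∀ m : ℕ,
    derivedSeries G m ≤ Subgroup.lowerCentralSeries (⊤ : Subgroup G) (2 ^ m - 1)
  | 0 => by simp
  | m + 1 => by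
    rw [derivedSeries_succ]
    refine (Subgroup.commutator_mono (derived_le_gamma m) (derived_le_gamma m)).trans ((gam_commutator _ _).trans ?_)
    refine le_of_eq ?_
    congr 1
    have := Nat.one_le_two_pow (n := m)
    rw [pow_succ]
    omega

/-- The derived length of a `p`-group with few fixed points. -/
theorem derived_pGroup {G : Type u} [Group G] [Finite G] {p : ℕ} [hp : Fact p.Prime] (hG : IsPGroup p G)
    (α : MulAut G) (hα : α ^ p = 1) {e : ℕ} (hfix : fixN α ≤ p ^ e) : derivedSeries G (dlP p e) = ⊥ := by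
  set K := e * p * hexp p e with hK
  set N := derivedSeries G (K + 1) with hN
  haveI : N.Characteristic := derivedSeries_characteristic G _
  have hinv := map_mem_char α N
  have hle := relIndex_bound (hG.to_subgroup N) (restr α N hinv) (restr_pow hinv hα)
    ((fixN_restr_le α hinv).trans hfix)
  have hbot : N.lowerCentralSeries (hcls p + 1) = ⊥ := by
    by_contra hne
    have h := Cfsg.Agent.S3781.result hG (2 ^ (K + 1)) Nat.one_le_two_pow N (derived_le_gamma _) (hcls p + 1)
      (by have := one_le_hcls hp.out; omega) hne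
    rw [Nat.add_sub_cancel, ← Subgroup.top_subtype_lowerCentralSeries N (hcls p + 1),
      ← Subgroup.top_subtype_lowerCentralSeries N (hcls p),
      Subgroup.relIndex_map_map_of_injective _ _ N.subtype_injective] at h
    have h2 := (Nat.pow_le_pow_iff_right hp.out.one_lt).mp (h.trans hle)
    have h3 := Nat.lt_two_pow_self (n := K + 1)
    omega
  rw [← Subgroup.top_subtype_lowerCentralSeries N (hcls p + 1), Subgroup.map_eq_bot_iff_of_injective _ N.subtype_injective] at hbot
  have hd : derivedSeries N (hcls p + 1) = ⊥ :=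
    le_bot_iff.mp ((Subgroup.derived_le_lower_central _).trans hbot.le)
  have h := CfsgLib.PLengthBound.derivedSeries_add_le N (a := K + 1) le_rfl (hcls p + 1)
  rw [hd, Subgroup.map_bot] at h
  exact le_bot_iff.mp h

end CfsgLib.AlperinBound
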