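import Cfsg.Agent.Lib.AlperinBound.PGroup

/-!
The derived length of a solvable group of order prime to `p` with an automorphism of order `p`.
-/

set_option autoImplicit false

namespace CfsgLib.AlperinBound

open CfsgLib.LieFpf

universe u

theorem class_of_fpf {Q : Type u} [Group Q] [Finite Q] {p : ℕ} [hp : Fact p.Prime] (β : MulAut Q)
    (hβ : β ^ p = 1) (hfpf : ∀ q, β q = q → q = 1) : derivedSeries Q (hcls p) = ⊥ := by
  refine le_bot_iff.mp ?_
  rcases eq_or_ne β 1 with rfl | hne
  · intro q _
    exact Subgroup.mem_bot.mpr (hfpf q rfl)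
  · exact (Subgroup.derived_le_lower_central _).trans
      (class_bound β (orderOf_eq_prime hβ hne) hfpf).1.le

theorem derived_stationary {G : Type u} [Group G] [Group.IsSolvable G] {j : ℕ}
    (h : derivedSeries G j ≤ derivedSeries G (j + 1)) : derivedSeries G j = ⊥ := by
  have h2 : ∀ t, derivedSeries G j ≤ derivedSeries G (j + t) := by
    intro t
    induction t with
    | zero => exact le_rfl
    | succ t ih =>
      refine h.trans ?_
      rw [derivedSeries_succ, ← Nat.add_assoc, derivedSeries_succ]
      exact Subgroup.commutator_mono ih ih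
  obtain ⟨m, hm⟩ := (isSolvable_def G).mp ‹_›
  exact le_bot_iff.mp ((h2 m).trans ((derivedSeries_antitone G (Nat.le_add_left m j)).trans hm.le))

/-- The bound for groups of order prime to `p`. -/
def dlP' (p N : ℕ) : ℕ := (hcls p + 1) * (N + 1)

theorem derived_pPrime {G : Type u} [Group G] [Finite G] [Group.IsSolvable G] {p : ℕ} [hp : Fact p.Prime]
    (hG : ¬ p ∣ Nat.card G) (α : MulAut G) (hα : α ^ p = 1) {N : ℕ} (hfix : fixN α ≤ N) :
    derivedSeries G (dlP' p N) = ⊥ := by
  set c := hcls p + 1 with hc
  let F : Subgroup G → ℕ := fun D => Nat.card {g : G // α g = g ∧ g ∈ D}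
  have key : ∀ k, derivedSeries G (c * k) = ⊥ ∨ F (derivedSeries G (c * k)) + k ≤ N := by
    intro k
    induction k with
    | zero =>
      refine Or.inr (le_trans ?_ hfix)
      exact Nat.card_le_card_of_injective
        (fun g : {g : G // α g = g ∧ g ∈ derivedSeries G (c * 0)} => (⟨g.1, g.2.1⟩ : {g : G // α g = g}))
        fun _ _ e => Subtype.ext (congrArg Subtype.val e :)
    | succ k ih =>
      rcases ih with h0 | h0
      · exact Or.inl (le_bot_iff.mp ((derivedSeries_antitone G (by rw [Nat.mul_succ]; omega)).trans h0.le))
      set D := derivedSeries G (c * k) with hD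
      set D' := derivedSeries G (c * (k + 1)) with hD'
      have hle : D' ≤ D := derivedSeries_antitone G (by rw [Nat.mul_succ]; omega)
      by_cases hall : ∀ g, α g = g → g ∈ D → g ∈ D'
      · refine Or.inl ?_
        haveI : D.Characteristic := derivedSeries_characteristic G _
        haveI : D'.Characteristic := derivedSeries_characteristic G _
        set K := D'.subgroupOf D with hK
        set a := restr α D (map_mem_char α D) with ha
        have hKinv : ∀ x ∈ K, a x ∈ K := fun x hx => by
          rw [Subgroup.mem_subgroupOf, coe_restr]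
          exact map_mem_char α D' _ (Subgroup.mem_subgroupOf.mp hx)
        have hfpf : ∀ q, quo a K hKinv q = q → q = 1 := fun q hq => by
          obtain ⟨x, rfl⟩ := QuotientGroup.mk'_surjective K q
          rw [← quo_mk a hKinv] at hq
          have hx : x⁻¹ * a x ∈ K := (QuotientGroup.eq).mp hq.symm
          obtain ⟨y, hy, hxy⟩ := exists_fixed_in_coset (p := p) (restr_pow _ hα) hKinv
            (fun hd => hG (hd.trans ((Subgroup.card_subgroup_dvd_card K).trans (Subgroup.card_subgroup_dvd_card D)))) hx
          have hy2 : y ∈ K := hall y (congrArg Subtype.val hy) y.2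
          rw [QuotientGroup.mk'_apply, QuotientGroup.eq_one_iff]
          exact inv_mem_iff.mp ((mul_mem_cancel_right hy2).mp hxy)
        have h1 := class_of_fpf (quo a K hKinv) (quo_pow hKinv (restr_pow _ hα)) hfpf
        have h2 : derivedSeries D (hcls p) ≤ K := by
          rw [← QuotientGroup.ker_mk' K, ← Subgroup.map_eq_bot_iff,
            map_derivedSeries_eq (QuotientGroup.mk'_surjective K)]
          exact h1
        have h3 : derivedSeries G (c * k + hcls p) ≤ D' :=
          (CfsgLib.PLengthBound.derivedSeries_add_le D le_rfl (hcls p)).trans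
            ((Subgroup.map_mono h2).trans (by rw [hK, Subgroup.map_subgroupOf_eq_of_le hle]))
        have h4 : derivedSeries G (c * k + hcls p) = ⊥ := by
          refine derived_stationary (le_of_le_of_eq h3 ?_)
          rw [hD', show c * (k + 1) = c * k + hcls p + 1 by rw [Nat.mul_succ, hc]; rfl]
        exact le_bot_iff.mp ((derivedSeries_antitone G (by rw [Nat.mul_succ]; omega)).trans h4.le)
      · refine Or.inr ?_
        push Not at hall
        obtain ⟨g, hg, hgD, hgD'⟩ := hall
        have hlt : F D' < F D := by
          classical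
          haveI := Fintype.ofFinite {g : G // α g = g ∧ g ∈ D'}
          haveI := Fintype.ofFinite {g : G // α g = g ∧ g ∈ D}
          simp only [F, Nat.card_eq_fintype_card]
          refine Fintype.card_lt_of_injective_of_notMem
            (f := fun x : {g : G // α g = g ∧ g ∈ D'} => (⟨x.1, x.2.1, hle x.2.2⟩ : {g : G // α g = g ∧ g ∈ D}))
            (fun _ _ e => Subtype.ext (congrArg Subtype.val e :)) (b := ⟨g, hg, hgD⟩) ?_
          rintro ⟨x, hx⟩
          have hxg : (x.1 : G) = g := congrArg Subtype.val hx
          exact hgD' (hxg ▸ x.2.2)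
        omega
  rcases key (N + 1) with h | h
  · exact h
  · omega

end CfsgLib.AlperinBound
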